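import Cfsg.Agent.S4698
import Cfsg.Agent.H590.OddPrincipal

/-!
# S4874, `p = 2`, T2 LOW (helper55): `k(B₀) = 5` implies `8 ∣ |G|`
-/

set_option autoImplicit false

open Cfsg

namespace Cfsg.Agent.H55.K5

universe u

/-- T2 LOW : Sylow 2-subgroups of order 1, 2, 4 -/
theorem low {G : Type u} [Group G] [Finite G] {M : Ideal AlgInt} (hM : IsPModular 2 M)
    (hk : Nat.card (principalBlock M G) = 5) : 8 ∣ Nat.card G := by
  have : Fact (Nat.Prime 2) := ⟨Nat.prime_two⟩
  by_contra h8
  have hfac : (Nat.card G).factorization 2 ≤ 2 := by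
    by_contra hc
    push Not at hc
    exact h8 ((Nat.prime_two.pow_dvd_iff_le_factorization Nat.card_pos.ne').2 hc)
  have hB : IsPBlock M (principalBlock M G) := by
    refine ⟨⟨1, Characters.Core.isIrr_one⟩, rfl⟩
  have hd : blockDefect 2 (principalBlock M G) ≤ 2 := (Nat.sub_le _ _).trans hfac
  have h1 := (Cfsg.Agent.S4698.result 2 M hM (principalBlock M G) hB _ rfl).1 hd
  rw [hk] at h1
  have h2 : 2 ^ blockDefect 2 (principalBlock M G) ≤ 2 ^ 2 := Nat.pow_le_pow_right (by norm_num) hd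
  omega

end Cfsg.Agent.H55.K5
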